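import Groth.Agent.AGFWeitz.Basic

/-!
Adding the standard two dimensional module, and Weitzenböck's theorem for an sl₂ triple.
-/

set_option autoImplicit false
noncomputable section

namespace Groth.Agent.AGFWeitz

open MvPolynomial

universe u v
variable {k : Type u} [Field k] [CharZero k] {σ : Type v} [Fintype σ]

local notation "P" => MvPolynomial σ k
local notation "Q" => MvPolynomial (σ ⊕ Fin 2) k

theorem derivation_comp_rename {τ : Type*} (g : σ → τ) (D : Derivation k P P)
    (D' : Derivation k (MvPolynomial τ k) (MvPolynomial τ k))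
    (h : ∀ i, D' (X (g i)) = rename g (D (X i))) (p : P) :
    D' (rename g p) = rename g (D p) := by
  induction p using MvPolynomial.induction_on with
  | C a => simp
  | add p q hp hq => simp [hp, hq]
  | mul_X p i hp => simp [Derivation.leibniz, hp, h]

/-- extend a derivation by given values on the two new variables -/
def extD (D : Derivation k P P) (a b : Q) : Derivation k Q Q :=
  mkDerivation k (Sum.elim (fun i => rename Sum.inl (D (X i))) ![a, b])

theorem extD_inl (D : Derivation k P P) (a b : Q) (p : P) :
    extD D a b (rename Sum.inl p) = rename Sum.inl (D p) :=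
  derivation_comp_rename Sum.inl D _ (fun i => by simp [extD]) p

theorem extD_X0 (D : Derivation k P P) (a b : Q) : extD D a b (X (Sum.inr 0)) = a := by
  simp [extD]

theorem extD_X1 (D : Derivation k P P) (a b : Q) : extD D a b (X (Sum.inr 1)) = b := by
  simp [extD]

namespace Triple

variable (t : Triple k σ)

local notation "x₀" => (X (Sum.inr 0) : Q)
local notation "y₀" => (X (Sum.inr 1) : Q)

def eE : Derivation k Q Q := extD t.E (-y₀) 0
def eF : Derivation k Q Q := extD t.F 0 (-x₀)
def eH : Derivation k Q Q := extD t.H (-x₀) y₀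

/-- tensor with the standard module -/
def ext : Triple k (σ ⊕ Fin 2) where
  E := t.eE
  F := t.eF
  H := t.eH
  w := Sum.elim t.w ![-1, 1]
  hH i := by
    rcases i with i | i
    · simp [eH, extD, t.hH]
    · fin_cases i <;> simp [eH, extD]
  homE i := by
    rcases i with i | i
    · simpa [eE, extD] using (t.homE i).rename_isHomogeneous
    · fin_cases i
      · simpa [eE, extD] using (isHomogeneous_X k (Sum.inr 1 : σ ⊕ Fin 2)).neg
      · simpa [eE, extD] using isHomogeneous_zero (σ ⊕ Fin 2) k 1
  homF i := by
    rcases i with i | i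
    · simpa [eF, extD] using (t.homF i).rename_isHomogeneous
    · fin_cases i
      · simpa [eF, extD] using isHomogeneous_zero (σ ⊕ Fin 2) k 1
      · simpa [eF, extD] using (isHomogeneous_X k (Sum.inr 0 : σ ⊕ Fin 2)).neg
  hHE p := by
    have h : ⁅t.eH, t.eE⁆ = (2 : k) • t.eE := by
      refine MvPolynomial.derivation_ext fun i => ?_
      rw [Derivation.commutator_apply]
      rcases i with i | i
      · rw [← rename_X (R := k) (Sum.inl : σ → σ ⊕ Fin 2) i]
        simp only [eH, eE, extD_inl, Derivation.smul_apply, ← map_sub, t.hHE, map_smul]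
      · fin_cases i <;>
          simp [eH, eE, extD_X0, extD_X1, two_smul] <;> abel
    simpa [Derivation.commutator_apply] using DFunLike.congr_fun h p
  hHF p := by
    have h : ⁅t.eH, t.eF⁆ = -((2 : k) • t.eF) := by
      refine MvPolynomial.derivation_ext fun i => ?_
      rw [Derivation.commutator_apply]
      rcases i with i | i
      · rw [← rename_X (R := k) (Sum.inl : σ → σ ⊕ Fin 2) i]
        simp only [eH, eF, extD_inl, Derivation.smul_apply, Derivation.coe_neg, Pi.neg_apply,
          ← map_sub, t.hHF, map_smul, map_neg]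
      · fin_cases i <;>
          simp [eH, eF, extD_X0, extD_X1, two_smul] <;> abel
    simpa [Derivation.commutator_apply] using DFunLike.congr_fun h p
  hEF p := by
    have h : ⁅t.eE, t.eF⁆ = t.eH := by
      refine MvPolynomial.derivation_ext fun i => ?_
      rw [Derivation.commutator_apply]
      rcases i with i | i
      · rw [← rename_X (R := k) (Sum.inl : σ → σ ⊕ Fin 2) i]
        simp only [eH, eF, eE, extD_inl, ← map_sub, t.hEF]
      · fin_cases i <;> simp [eH, eF, eE, extD_X0, extD_X1]
    simpa [Derivation.commutator_apply] using DFunLike.congr_fun h p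

/-- evaluation at `(1, 0)` -/
def spec10 : Q →ₐ[k] P := aeval (Sum.elim X ![1, 0])

omit [CharZero k] [Fintype σ] in
theorem spec10_rename (p : P) : spec10 (rename Sum.inl p : Q) = p := by
  rw [spec10, aeval_rename]
  simp [Function.comp_def]

theorem spec10_E (q : Q) : spec10 (t.ext.E q) = t.E (spec10 q) := by
  have hX : ∀ i, spec10 (t.ext.E (X i : Q)) = t.E (spec10 (X i : Q)) := by
    rintro (i | i)
    · rw [← rename_X (R := k) (Sum.inl : σ → σ ⊕ Fin 2) i]
      show spec10 (t.eE _) = _
      rw [eE, extD_inl, spec10_rename, spec10_rename]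
    · fin_cases i <;>
        simp [ext, eE, extD_X0, extD_X1, spec10]
  induction q using MvPolynomial.induction_on with
  | C a => simp [spec10]
  | add p q hp hq => simp [hp, hq]
  | mul_X p i hp => simp [Derivation.leibniz, hp, hX, mul_comm]

theorem Derivation_X_pow {τ : Type*} (D : Derivation k (MvPolynomial τ k) (MvPolynomial τ k))
    (i : τ) (a : ℕ) :
    D (X i ^ a) = (a : k) • (X i ^ (a - 1) * D (X i)) := by
  rw [Derivation.leibniz_pow, smul_eq_mul, Nat.cast_smul_eq_nsmul]

/-- the invariant attached to a highest weight vector -/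
def lift (v : P) (n : ℕ) : Q :=
  ∑ j ∈ Finset.range (n + 1),
    (1 / (j.factorial : k)) • (x₀ ^ (n - j) * y₀ ^ j * rename Sum.inl ((⇑t.F)^[j] v))

theorem spec10_lift (v : P) (n : ℕ) : spec10 (t.lift v n) = v := by
  rw [lift, map_sum, Finset.sum_eq_single 0]
  · rw [map_smul, map_mul, map_mul, map_pow, map_pow, spec10_rename]
    simp [spec10]
  · intro j _ hj
    simp [spec10, zero_pow hj]
  · intro h; simp at h

theorem lift_inv {v : P} {n : ℕ} (hv : t.IsWt n v) (he : t.E v = 0)
    (hn : (⇑t.F)^[n + 1] v = 0) : t.lift v n ∈ t.ext.inv := by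
  have hfac : ∀ j : ℕ, ((j + 1).factorial : k) = ((j : k) + 1) * (j.factorial : k) := fun j => by
    rw [Nat.factorial_succ]; push_cast; ring
  have hf0 : ∀ j : ℕ, (j.factorial : k) ≠ 0 := fun j => Nat.cast_ne_zero.mpr (Nat.factorial_ne_zero j)
  have hj0 : ∀ j : ℕ, ((j : k) + 1) ≠ 0 := fun j => Nat.cast_add_one_ne_zero j
  rw [mem_inv]
  refine ⟨?_, ?_, ?_⟩
  · show t.eE (t.lift v n) = 0
    rw [lift, map_sum]
    let A : ℕ → Q := fun j => ((1 / (j.factorial : k)) * ((n - j : ℕ) : k)) •
      (x₀ ^ (n - j - 1) * y₀ ^ (j + 1) * rename Sum.inl ((⇑t.F)^[j] v))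
    have h0 : ∀ j, j ≤ n → t.eE ((1 / (j.factorial : k)) •
        (x₀ ^ (n - j) * y₀ ^ j * rename Sum.inl ((⇑t.F)^[j] v)))
        = (if j = 0 then 0 else A (j - 1)) - A j := by
      intro j hj
      rw [Derivation.map_smul, Derivation.leibniz, Derivation.leibniz, Derivation_X_pow, Derivation_X_pow,
        eE, extD_X0, extD_X1, extD_inl]
      rcases j with _ | j
      · simp only [Function.iterate_zero, id_eq, he, map_zero, smul_eq_mul, mul_zero, smul_zero,
          Nat.sub_zero, pow_zero, zero_add, pow_one, if_true, A, mul_smul_comm, smul_smul]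
        simp only [mul_neg, mul_one, one_mul, Nat.factorial_zero, Nat.cast_one, div_one, smul_eq_C_mul]
        ring
      · rw [t.E_iter_F hv he j, if_neg (by omega), Nat.add_sub_cancel]
        simp only [A, smul_eq_mul, map_smul, mul_smul_comm, smul_smul, mul_zero, smul_zero,
          zero_add, mul_neg, smul_neg]
        rw [show n - j - 1 = n - (j + 1) by omega,
          show ((n - j : ℕ) : k) = (n : k) - j by push_cast [Nat.cast_sub (show j ≤ n by omega)]; ring,
          hfac]
        push_cast
        have hcoef : 1 / (((j : k) + 1) * (j.factorial : k)) * (((j : k) + 1) * ((n : k) - j))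
            = 1 / (j.factorial : k) * ((n : k) - j) := by
          field_simp [hf0 j, hj0 j]
        rw [smul_add, smul_smul, hcoef]
        simp only [smul_eq_C_mul, map_mul, map_sub]
        ring
    rw [Finset.sum_congr rfl fun j hj => h0 j (by simp at hj; omega), Finset.sum_sub_distrib,
      Finset.sum_range_succ', Finset.sum_range_succ (fun j => A j)]
    simp [A]
  · show t.eF (t.lift v n) = 0
    rw [lift, map_sum]
    let A : ℕ → Q := fun j => (1 / (j.factorial : k)) •
      (x₀ ^ (n - j) * y₀ ^ j * rename Sum.inl ((⇑t.F)^[j + 1] v))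
    have h0 : ∀ j, j ≤ n → t.eF ((1 / (j.factorial : k)) •
        (x₀ ^ (n - j) * y₀ ^ j * rename Sum.inl ((⇑t.F)^[j] v)))
        = A j - (if j = 0 then 0 else A (j - 1)) := by
      intro j hj
      rw [Derivation.map_smul, Derivation.leibniz, Derivation.leibniz, Derivation_X_pow, Derivation_X_pow,
        eF, extD_X0, extD_X1, extD_inl, ← Function.iterate_succ_apply' (⇑t.F) j v]
      rcases j with _ | j
      · simp [A, smul_eq_C_mul]
      · rw [if_neg (by omega), Nat.add_sub_cancel]
        simp only [A, smul_eq_mul, mul_zero, smul_zero, add_zero, mul_neg, smul_neg]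
        rw [show n - j = n - (j + 1) + 1 by omega, hfac]
        push_cast
        simp only [smul_eq_C_mul]
        have hC : C (1 / (((j : k) + 1) * (j.factorial : k))) * C ((j : k) + 1)
            = (C (1 / (j.factorial : k)) : Q) := by
          rw [← map_mul]
          congr 1
          field_simp [hf0 j, hj0 j]
        rw [← hC]
        ring
    rw [Finset.sum_congr rfl fun j hj => h0 j (by simp at hj; omega), Finset.sum_sub_distrib,
      Finset.sum_range_succ (fun j => A j), Finset.sum_range_succ' (fun j => if j = 0 then 0 else A (j - 1))]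
    simp only [A, hn, map_zero, mul_zero, smul_zero, Nat.add_sub_cancel]
    simp
  · show t.eH (t.lift v n) = 0
    rw [lift, map_sum]
    refine Finset.sum_eq_zero fun j hj => ?_
    have hjn : j ≤ n := by simp at hj; omega
    rw [Derivation.map_smul, Derivation.leibniz, Derivation.leibniz, Derivation_X_pow, Derivation_X_pow,
      eH, extD_X0, extD_X1, extD_inl, t.isWt_iff.mp (t.iter_F_wt hv j), map_smul]
    have hp : ∀ (z : Q) (a : ℕ), (a : k) • (z ^ (a - 1) * z) = (a : k) • z ^ a := by
      intro z a
      rcases a with _ | a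
      · simp
      · rw [Nat.add_sub_cancel, pow_succ]
    rw [mul_neg, smul_neg, hp, hp, Nat.cast_sub hjn]
    simp only [smul_eq_mul, smul_eq_C_mul]
    push_cast
    simp only [map_sub, map_mul, map_natCast, map_ofNat]
    ring

/-- the kernel of the raising operator, as a subalgebra -/
def kerE : Subalgebra k P where
  carrier := {p | t.E p = 0}
  mul_mem' := fun {a b} ha hb => by simp_all [Derivation.leibniz]
  add_mem' := fun {a b} ha hb => by simp_all
  algebraMap_mem' r := by simp

theorem mem_kerE {p : P} : p ∈ t.kerE ↔ t.E p = 0 := Iff.rfl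

theorem kerE_eq_map : t.kerE = t.ext.inv.map spec10 := by
  classical
  apply le_antisymm
  · intro p hp
    rw [t.eq_sum_proj p]
    refine sum_mem fun m _ => ?_
    have he : t.E (t.proj m p) = 0 := by
      have h := t.proj_comm t.E.toLinearMap 2 (fun r => by simpa using t.hHE r) m p
      simp only [Derivation.coeFn_coe] at h
      rw [h, (show t.E p = 0 from hp), map_zero]
    by_cases hne : t.proj m p = 0
    · rw [hne]; exact zero_mem _
    obtain ⟨n, rfl, hn⟩ := t.highest (t.proj_isWt m p) he hne
    exact ⟨_, t.lift_inv (t.proj_isWt _ p) he hn, t.spec10_lift _ n⟩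
  · rintro _ ⟨q, hq, rfl⟩
    show t.E (spec10 q) = 0
    rw [← spec10_E, show t.ext.E q = 0 from hq.1, map_zero]

theorem kerE_fg : t.kerE.FG := by
  rw [t.kerE_eq_map]
  exact t.ext.inv_fg.map _

end Triple

end Groth.Agent.AGFWeitz
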